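import Mathlib
import Groth.Prelude.Def_W4ega4s0809p4Pair
import Groth.Agent.Lib.Helper7.LimStage

set_option autoImplicit false
set_option linter.style.haveILetI false
set_option linter.unusedVariables false
set_option linter.unusedSectionVars false
set_option backward.isDefEq.respectTransparency.types false

open CategoryTheory CategoryTheory.Limits AlgebraicGeometry

universe u

/-! helper7: relations between two schemes over a field given by the existence, after a field
extension, of a morphism with a given property between the base changes: definition, field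
stability, and behaviour of the locus in a family under base change. -/

namespace Groth.Agent.Helper7.ConsPair

open Groth.Agent.Helper7.LimStage

/-- the relation between two schemes over a one-point base: after some extension of the base
field there is a morphism with property `Q` between the base changes. -/
def PairProp (Q : MorphismProperty Scheme.{u}) :
    ∀ ⦃X Y T : Scheme.{u}⦄, (X ⟶ T) → (Y ⟶ T) → Prop :=
  fun X Y T gX gY => ∃ (T' X' Y' : Scheme.{u}) (h : T' ⟶ T) (gX' : X' ⟶ T') (gY' : Y' ⟶ T')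
    (eX : X' ⟶ X) (eY : Y' ⟶ Y), IsIntegral T' ∧ Subsingleton ↥T' ∧
      IsPullback eX gX' gX h ∧ IsPullback eY gY' gY h ∧
        ∃ g : X' ⟶ Y', g ≫ gY' = gX' ∧ Q g

section Cat

variable {C : Type*} [Category C]

/-- two base changes of the same object, and a further object mapping compatibly to both bases:
a base change of the second is a base change of the first. -/
theorem exists_isPullback_of_comp {X X' X₁ T T' T₁ T'' X'' : C} {gX : X ⟶ T} {gX' : X' ⟶ T'}
    {eX : X' ⟶ X} {h : T' ⟶ T} (hX : IsPullback eX gX' gX h) {gX₁ : X₁ ⟶ T₁} {eX₁ : X₁ ⟶ X}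
    {h₁ : T₁ ⟶ T} (hX₁ : IsPullback eX₁ gX₁ gX h₁) (a : T'' ⟶ T') (b : T'' ⟶ T₁)
    (hab : a ≫ h = b ≫ h₁) {q : X'' ⟶ X₁} {gX'' : X'' ⟶ T''} (hX'' : IsPullback q gX'' gX₁ b) :
    ∃ p : X'' ⟶ X', IsPullback p gX'' gX' a := by
  refine ⟨hX.lift (q ≫ eX₁) (gX'' ≫ a) (by
    rw [Category.assoc, hX₁.w, ← Category.assoc, hX''.w, Category.assoc, Category.assoc, hab]), ?_⟩
  refine IsPullback.of_right ?_ (hX.lift_snd _ _ _) hX
  rw [hX.lift_fst, hab]
  exact hX''.paste_horiz hX₁

/-- a base change along a map factoring through another base change is a base change of the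
latter. -/
theorem exists_isPullback_of_fac {X X' T T' T'' X'' : C} {gX : X ⟶ T} {gX' : X' ⟶ T'}
    {eX : X' ⟶ X} {h : T' ⟶ T} (hX : IsPullback eX gX' gX h) (a : T'' ⟶ T') (b : T'' ⟶ T)
    (hab : a ≫ h = b) {q : X'' ⟶ X} {gX'' : X'' ⟶ T''} (hX'' : IsPullback q gX'' gX b) :
    ∃ p : X'' ⟶ X', p ≫ eX = q ∧ IsPullback p gX'' gX' a := by
  subst hab
  refine ⟨hX.lift q (gX'' ≫ a) (by rw [hX''.w, Category.assoc]), hX.lift_fst _ _ _,
    IsPullback.of_right ?_ (hX.lift_snd _ _ _) hX⟩
  rw [hX.lift_fst]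
  exact hX''

end Cat

/-- the relation descends along a field extension. -/
theorem pairProp_of_isPullback (Q : MorphismProperty Scheme.{u}) {X X' Y Y' T T' : Scheme.{u}}
    {gX : X ⟶ T} {gY : Y ⟶ T} {gX' : X' ⟶ T'} {gY' : Y' ⟶ T'} {eX : X' ⟶ X} {eY : Y' ⟶ Y}
    {h : T' ⟶ T} (hX : IsPullback eX gX' gX h) (hY : IsPullback eY gY' gY h)
    (H : PairProp Q gX' gY') : PairProp Q gX gY := by
  obtain ⟨T'', X'', Y'', h', gX'', gY'', eX', eY', hint, hsub, hX', hY', g, hg, hQ⟩ := H
  exact ⟨T'', X'', Y'', h' ≫ h, gX'', gY'', eX' ≫ eX, eY' ≫ eY, hint, hsub,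
    hX'.paste_horiz hX, hY'.paste_horiz hY, g, hg, hQ⟩

/-- the relation is stable under extension of the base field. -/
theorem pairProp_baseChange (Q : MorphismProperty Scheme.{u}) [Q.IsStableUnderBaseChange]
    {X X' Y Y' T T' : Scheme.{u}}
    {gX : X ⟶ T} {gY : Y ⟶ T} {gX' : X' ⟶ T'} {gY' : Y' ⟶ T'} {eX : X' ⟶ X} {eY : Y' ⟶ Y}
    {h : T' ⟶ T} [Subsingleton T] [Nonempty T']
    (hX : IsPullback eX gX' gX h) (hY : IsPullback eY gY' gY h)
    (H : PairProp Q gX gY) : PairProp Q gX' gY' := by
  obtain ⟨T₁, X₁, Y₁, h₁, gX₁, gY₁, eX₁, eY₁, hint, hsub, hX₁, hY₁, g₁, hg₁, hQ₁⟩ := H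
  subst hg₁
  have hne : Nonempty T₁ := inferInstance
  obtain ⟨z, -, -⟩ := Scheme.Pullback.exists_preimage_pullback (f := h) (g := h₁)
    (Classical.arbitrary T') (Classical.arbitrary T₁) (Subsingleton.elim _ _)
  let a : Spec ((pullback h h₁).residueField z) ⟶ T' :=
    (pullback h h₁).fromSpecResidueField z ≫ pullback.fst h h₁
  let b : Spec ((pullback h h₁).residueField z) ⟶ T₁ :=
    (pullback h h₁).fromSpecResidueField z ≫ pullback.snd h h₁
  have hab : a ≫ h = b ≫ h₁ := by
    simp only [a, b, Category.assoc, pullback.condition]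
  obtain ⟨pX, hpX⟩ := exists_isPullback_of_comp hX hX₁ a b hab
    (IsPullback.of_hasPullback (g₁ ≫ gY₁) b)
  obtain ⟨pY, hpY⟩ := exists_isPullback_of_comp hY hY₁ a b hab
    (IsPullback.of_hasPullback gY₁ b)
  exact ⟨_, _, _, a, _, _, pX, pY, inferInstance, inferInstance, hpX, hpY,
    bcHom g₁ gY₁ b, bcHom_snd _ _ _,
    MorphismProperty.of_isPullback (isPullback_bcHom g₁ gY₁ b) hQ₁⟩

/-- field stability of the relation. -/
theorem isFieldStablePair_pairProp (Q : MorphismProperty Scheme.{u})
    [Q.IsStableUnderBaseChange] : ConsPropPair.IsFieldStablePair (PairProp Q) := by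
  intro X X' Y Y' T T' gX gY gX' gY' eX eY h _ _ _ _ _ _ _ _ hX hY
  exact ⟨pairProp_baseChange Q hX hY, pairProp_of_isPullback Q hX hY⟩

/-- if after a base change `S' ⟶ S` there is a morphism with `Q` between the two families, then
the relation holds at every point of the image. -/
theorem mem_locusPair_of_isPullback (Q : MorphismProperty Scheme.{u}) [Q.IsStableUnderBaseChange]
    {X Y S S' X' Y' : Scheme.{u}} (u : X ⟶ S) (v : Y ⟶ S) (π : S' ⟶ S) (u' : X' ⟶ S')
    (v' : Y' ⟶ S') (pX : X' ⟶ X) (pY : Y' ⟶ Y) (hX : IsPullback pX u' u π)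
    (hY : IsPullback pY v' v π) (g : X' ⟶ Y') (hg : g ≫ v' = u') (hQ : Q g) (s' : S') :
    π s' ∈ ConsPropPair.locusPair (PairProp Q) u v := by
  subst hg
  show PairProp Q (u.fiberToSpecResidueField (π s')) (v.fiberToSpecResidueField (π s'))
  exact ⟨Spec (S'.residueField s'), (g ≫ v').fiber s', v'.fiber s',
    Spec.map (π.residueFieldMap s'), (g ≫ v').fiberToSpecResidueField s',
    v'.fiberToSpecResidueField s', _, _, inferInstance, inferInstance,
    isPullback_fiberToSpecResidueField_of_isPullback hX s',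
    isPullback_fiberToSpecResidueField_of_isPullback hY s',
    bcHom g v' (S'.fromSpecResidueField s'), bcHom_snd _ _ _,
    MorphismProperty.of_isPullback (isPullback_bcHom g v' (S'.fromSpecResidueField s')) hQ⟩

instance lft_fiberToSpecResidueField {X S : Scheme.{u}} (u : X ⟶ S) [LocallyOfFiniteType u]
    (s : S) : LocallyOfFiniteType (u.fiberToSpecResidueField s) :=
  MorphismProperty.pullback_snd _ _ inferInstance

instance qc_fiberToSpecResidueField {X S : Scheme.{u}} (u : X ⟶ S) [QuasiCompact u]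
    (s : S) : QuasiCompact (u.fiberToSpecResidueField s) :=
  MorphismProperty.pullback_snd _ _ inferInstance

/-- the locus of a field-stable relation commutes with base change. -/
theorem locusPair_eq_preimage {P : ∀ ⦃X Y T : Scheme.{u}⦄, (X ⟶ T) → (Y ⟶ T) → Prop}
    (hP : ConsPropPair.IsFieldStablePair P)
    {X Y S S' X' Y' : Scheme.{u}} (u : X ⟶ S) (v : Y ⟶ S) (π : S' ⟶ S) (u' : X' ⟶ S')
    (v' : Y' ⟶ S') (pX : X' ⟶ X) (pY : Y' ⟶ Y) (hX : IsPullback pX u' u π)
    (hY : IsPullback pY v' v π)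
    [LocallyOfFiniteType u] [QuasiCompact u] [LocallyOfFiniteType v] [QuasiCompact v] :
    ConsPropPair.locusPair P u' v' = π ⁻¹' ConsPropPair.locusPair P u v := by
  ext s'
  exact (hP (u.fiberToSpecResidueField (π s')) (v.fiberToSpecResidueField (π s'))
    (u'.fiberToSpecResidueField s') (v'.fiberToSpecResidueField s') _ _
    (Spec.map (π.residueFieldMap s'))
    (isPullback_fiberToSpecResidueField_of_isPullback hX s')
    (isPullback_fiberToSpecResidueField_of_isPullback hY s')).symm

end Groth.Agent.Helper7.ConsPair
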