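import Mathlib
import Groth.Agent.Lib.Helper7.LimHom
import Groth.Agent.Lib.Helper7.LimStage
import Groth.Agent.Lib.Helper2.LfpOfComp

set_option autoImplicit false
set_option linter.style.haveILetI false
set_option linter.unusedVariables false
set_option linter.unusedSectionVars false
set_option backward.isDefEq.respectTransparency.types false

open CategoryTheory CategoryTheory.Limits AlgebraicGeometry

universe u

/-! helper7: a morphism with a stage-descending property between the base changes to a cofiltered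
limit of two schemes of finite presentation over a stage comes from a finite stage. -/

namespace Groth.Agent.Helper7.ConsPair

open Groth.Agent.Helper7.LimStage

/-- the property descends to a finite stage of a cofiltered limit with affine transition maps
(for morphisms of finite presentation over a stage). -/
def HasStage (Q : MorphismProperty Scheme.{u}) : Prop :=
  ∀ {I : Type u} [Category.{u} I] [IsCofiltered I] (D : I ⥤ Scheme.{u}) (c : Cone D)
    (hc : IsLimit c) [∀ {i j : I} (f : i ⟶ j), IsAffineHom (D.map f)] {i₀ : I}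
    {X₀ Y₀ : Scheme.{u}} (f₀ : X₀ ⟶ Y₀) (g₀ : Y₀ ⟶ D.obj i₀) [CompactSpace Y₀] [QuasiCompact f₀]
    [QuasiSeparated f₀] [LocallyOfFinitePresentation f₀],
    Q (bcHom f₀ g₀ (c.π.app i₀)) → ∃ (j : I) (φ : j ⟶ i₀), Q (bcHom f₀ g₀ (D.map φ))

variable {I : Type u} [Category.{u} I] [IsCofiltered I] (D : I ⥤ Scheme.{u}) (c : Cone D)
  (hc : IsLimit c) [∀ {i j : I} (f : i ⟶ j), IsAffineHom (D.map f)]

set_option backward.isDefEq.respectTransparency false in
include hc in
/-- a morphism with `Q` between the base changes to the limit of two schemes of finite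
presentation over a stage comes from a morphism with `Q` over a finite stage. -/
theorem exists_stage_pair (Q : MorphismProperty Scheme.{u}) [Q.IsStableUnderBaseChange]
    (hQ : HasStage Q) (i₀ : I) [CompactSpace (D.obj i₀)] [QuasiSeparatedSpace (D.obj i₀)]
    {X₀ Y₀ : Scheme.{u}} (u₀ : X₀ ⟶ D.obj i₀) (v₀ : Y₀ ⟶ D.obj i₀)
    [LocallyOfFinitePresentation u₀] [QuasiCompact u₀] [QuasiSeparated u₀]
    [LocallyOfFinitePresentation v₀] [QuasiCompact v₀] [QuasiSeparated v₀]
    {X Y : Scheme.{u}} {qX : X ⟶ X₀} {pX : X ⟶ c.pt} (hX : IsPullback qX pX u₀ (c.π.app i₀))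
    {qY : Y ⟶ Y₀} {pY : Y ⟶ c.pt} (hY : IsPullback qY pY v₀ (c.π.app i₀))
    (g : X ⟶ Y) (hg : g ≫ pY = pX) (hQg : Q g) :
    ∃ (j : I) (φ : j ⟶ i₀) (Xj Yj : Scheme.{u}) (uj : Xj ⟶ D.obj j) (vj : Yj ⟶ D.obj j)
      (rX : Xj ⟶ X₀) (rY : Yj ⟶ Y₀), IsPullback rX uj u₀ (D.map φ) ∧
        IsPullback rY vj v₀ (D.map φ) ∧ ∃ gj : Xj ⟶ Yj, gj ≫ vj = uj ∧ Q gj := by
  have : CompactSpace X₀ := QuasiCompact.compactSpace_of_compactSpace u₀
  have : QuasiSeparatedSpace X₀ := quasiSeparatedSpace_of_quasiSeparated u₀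
  obtain ⟨j, φ, fj, sX, sY, h1, h2, h3, h4, h5, h6⟩ :=
    Groth.Agent.Helper7.LimHom.exists_hom_descend D c hc i₀ u₀ v₀ hX hY g hg
  have : CompactSpace (D.obj j) := QuasiCompact.compactSpace_of_compactSpace (D.map φ)
  have : CompactSpace ↥(pullback v₀ (D.map φ)) :=
    QuasiCompact.compactSpace_of_compactSpace (pullback.snd v₀ (D.map φ))
  have hqc : QuasiCompact (fj ≫ pullback.snd v₀ (D.map φ)) := by rw [h1]; infer_instance
  have hqs : QuasiSeparated (fj ≫ pullback.snd v₀ (D.map φ)) := by rw [h1]; infer_instance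
  have hlfp : LocallyOfFinitePresentation (fj ≫ pullback.snd v₀ (D.map φ)) := by
    rw [h1]; infer_instance
  have : QuasiCompact fj := QuasiCompact.of_comp fj (pullback.snd v₀ (D.map φ))
  have : QuasiSeparated fj := QuasiSeparated.of_comp fj (pullback.snd v₀ (D.map φ))
  have : LocallyOfFinitePresentation fj :=
    Groth.Agent.Helper2.locallyOfFinitePresentation_of_comp fj (pullback.snd v₀ (D.map φ))
      inferInstance hlfp
  -- the squares over the limit
  have hY' : IsPullback sY pY (pullback.snd v₀ (D.map φ)) (c.π.app j) := by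
    refine IsPullback.of_right ?_ h5 (IsPullback.of_hasPullback v₀ (D.map φ))
    rw [h4, c.w φ]
    exact hY
  have hX₁ : IsPullback sX pX (pullback.snd u₀ (D.map φ)) (c.π.app j) := by
    refine IsPullback.of_right ?_ h3 (IsPullback.of_hasPullback u₀ (D.map φ))
    rw [h2, c.w φ]
    exact hX
  have hX' : IsPullback sX g fj sY := by
    refine IsPullback.of_bot ?_ h6 hY'
    rw [hg, h1]
    exact hX₁
  have hbc : Q (bcHom fj (pullback.snd v₀ (D.map φ)) (c.π.app j)) :=
    bcHom_of_isPullback fj (pullback.snd v₀ (D.map φ)) Q (c.π.app j) hY' hX' hQg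
  obtain ⟨j', φ', hj'⟩ := hQ D c hc fj (pullback.snd v₀ (D.map φ)) hbc
  have e1 : IsPullback (pullback.fst (fj ≫ pullback.snd v₀ (D.map φ)) (D.map φ'))
      (pullback.snd (fj ≫ pullback.snd v₀ (D.map φ)) (D.map φ'))
      (pullback.snd u₀ (D.map φ)) (D.map φ') := by
    rw [← h1]
    exact IsPullback.of_hasPullback _ _
  refine ⟨j', φ' ≫ φ, _, _, pullback.snd (fj ≫ pullback.snd v₀ (D.map φ)) (D.map φ'),
    pullback.snd (pullback.snd v₀ (D.map φ)) (D.map φ'),
    pullback.fst (fj ≫ pullback.snd v₀ (D.map φ)) (D.map φ') ≫ pullback.fst u₀ (D.map φ),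
    pullback.fst (pullback.snd v₀ (D.map φ)) (D.map φ') ≫ pullback.fst v₀ (D.map φ), ?_, ?_,
    bcHom fj (pullback.snd v₀ (D.map φ)) (D.map φ'), bcHom_snd _ _ _, hj'⟩
  · rw [D.map_comp]
    exact e1.paste_horiz (IsPullback.of_hasPullback u₀ (D.map φ))
  · rw [D.map_comp]
    exact (IsPullback.of_hasPullback _ _).paste_horiz (IsPullback.of_hasPullback v₀ (D.map φ))

end Groth.Agent.Helper7.ConsPair
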