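import Mathlib
import Groth.Agent.Lib.Helper7.ConsPair.Basic
import Groth.Agent.Lib.Helper7.ConsPair.Lim
import Groth.Agent.Lib.Helper7.RelFGSub

set_option autoImplicit false
set_option linter.style.haveILetI false
set_option linter.unusedVariables false
set_option linter.unusedSectionVars false
set_option backward.isDefEq.respectTransparency.types false

open CategoryTheory CategoryTheory.Limits AlgebraicGeometry Opposite

universe u

/-! helper7: spreading out a morphism between the base changes of two schemes of finite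
presentation over a ring to a finitely generated subalgebra of the extension. -/

namespace Groth.Agent.Helper7.ConsPair

open Groth.Agent.Helper7.LimStage Groth.Agent.Helper7

set_option backward.isDefEq.respectTransparency false in
/-- spreading out: a morphism with `Q` between the base changes of two schemes of finite
presentation over `Spec R` to an `R`-algebra `K` comes from a morphism with `Q` between the base
changes to a finitely generated `R`-subalgebra of `K`. -/
theorem exists_spread (Q : MorphismProperty Scheme.{u}) [Q.IsStableUnderBaseChange]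
    (hQ : HasStage Q) (R : Type u) [CommRing R] {X Y : Scheme.{u}}
    (u : X ⟶ Spec (CommRingCat.of R)) (v : Y ⟶ Spec (CommRingCat.of R))
    [LocallyOfFinitePresentation u] [QuasiCompact u] [QuasiSeparated u]
    [LocallyOfFinitePresentation v] [QuasiCompact v] [QuasiSeparated v]
    (K : Type u) [CommRing K] (t : Spec (CommRingCat.of K) ⟶ Spec (CommRingCat.of R))
    {X' Y' : Scheme.{u}} {eX : X' ⟶ X} {gX' : X' ⟶ Spec (CommRingCat.of K)}
    (hX : IsPullback eX gX' u t) {eY : Y' ⟶ Y} {gY' : Y' ⟶ Spec (CommRingCat.of K)}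
    (hY : IsPullback eY gY' v t) (g : X' ⟶ Y') (hg : g ≫ gY' = gX') (hQg : Q g) :
    ∃ (S' : Scheme.{u}) (π : S' ⟶ Spec (CommRingCat.of R)) (_ : LocallyOfFiniteType π)
      (_ : QuasiCompact π) (X₁ Y₁ : Scheme.{u}) (u₁ : X₁ ⟶ S') (v₁ : Y₁ ⟶ S') (pX : X₁ ⟶ X)
      (pY : Y₁ ⟶ Y), IsPullback pX u₁ u π ∧ IsPullback pY v₁ v π ∧
        (∃ g₁ : X₁ ⟶ Y₁, g₁ ≫ v₁ = u₁ ∧ Q g₁) ∧ Set.range t ⊆ Set.range π := by
  obtain ⟨φ, rfl⟩ := Spec.map_surjective t
  letI : Algebra R K := φ.hom.toAlgebra
  let i₀ : (RelFGSub.Idx R K)ᵒᵖ := op ⟨⊥, Subalgebra.fg_bot⟩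
  have hπ : (RelFGSub.specCone R K).π.app i₀ ≫ RelFGSub.toBase R K i₀ = Spec.map φ :=
    RelFGSub.π_toBase R K i₀
  obtain ⟨qX, hqX, hX₀⟩ := exists_isPullback_of_fac
    (IsPullback.of_hasPullback u (RelFGSub.toBase R K i₀)) ((RelFGSub.specCone R K).π.app i₀)
    (Spec.map φ) hπ hX
  obtain ⟨qY, hqY, hY₀⟩ := exists_isPullback_of_fac
    (IsPullback.of_hasPullback v (RelFGSub.toBase R K i₀)) ((RelFGSub.specCone R K).π.app i₀)
    (Spec.map φ) hπ hY
  have hcs : ∀ j : (RelFGSub.Idx R K)ᵒᵖ, CompactSpace ↥((RelFGSub.specDiag R K).obj j) := by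
    intro j
    show CompactSpace ↥(Spec _)
    infer_instance
  have hqs : ∀ j : (RelFGSub.Idx R K)ᵒᵖ,
      QuasiSeparatedSpace ↥((RelFGSub.specDiag R K).obj j) := by
    intro j
    show QuasiSeparatedSpace ↥(Spec _)
    infer_instance
  have := hcs i₀
  have := hqs i₀
  obtain ⟨j, ψ, Xj, Yj, uj, vj, rX, rY, hXj, hYj, gj, hgj, hQj⟩ :=
    exists_stage_pair (RelFGSub.specDiag R K) (RelFGSub.specCone R K)
      (RelFGSub.isLimit_specCone R K).some Q hQ i₀
      (pullback.snd u (RelFGSub.toBase R K i₀)) (pullback.snd v (RelFGSub.toBase R K i₀))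
      hX₀ hY₀ g hg hQg
  have hqc : QuasiCompact (RelFGSub.toBase R K j) := by
    show QuasiCompact (Spec.map _)
    infer_instance
  refine ⟨(RelFGSub.specDiag R K).obj j, RelFGSub.toBase R K j, inferInstance, hqc, Xj, Yj, uj,
    vj, rX ≫ pullback.fst u (RelFGSub.toBase R K i₀),
    rY ≫ pullback.fst v (RelFGSub.toBase R K i₀), ?_, ?_, ⟨gj, hgj, hQj⟩, ?_⟩
  · have h1 := hXj.paste_horiz (IsPullback.of_hasPullback u (RelFGSub.toBase R K i₀))
    rwa [RelFGSub.map_toBase] at h1
  · have h1 := hYj.paste_horiz (IsPullback.of_hasPullback v (RelFGSub.toBase R K i₀))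
    rwa [RelFGSub.map_toBase] at h1
  · rintro _ ⟨x, rfl⟩
    refine ⟨(RelFGSub.specCone R K).π.app j x, ?_⟩
    rw [← Scheme.Hom.comp_apply, RelFGSub.π_toBase]
    rfl

end Groth.Agent.Helper7.ConsPair
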