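import Mathlib
import Groth.Agent.Lib.Helper7.ConsPair.Spread
import Groth.Agent.Lib.Helper1.ConstrL

set_option autoImplicit false
set_option linter.style.haveILetI false
set_option linter.unusedVariables false
set_option linter.unusedSectionVars false
set_option backward.isDefEq.respectTransparency.types false

open CategoryTheory CategoryTheory.Limits AlgebraicGeometry Opposite Topology

universe u

/-! helper7: the relation "after a field extension there is a morphism with property Q between
the base changes" is an ind-constructible property of pairs of algebraic schemes, for Q stable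
under base change and descending to finite stages of cofiltered limits. -/

namespace Groth.Agent.Helper7.ConsPair

open Groth.Agent.Helper7.LimStage Groth.Agent.Helper7

/-- replacing the base of a cartesian square by an isomorphic one. -/
theorem isPullback_of_iso_base {C : Type*} [Category C] {X' X T' T'' T : C} {eX : X' ⟶ X}
    {gX' : X' ⟶ T'} {u : X ⟶ T} {t₀ : T' ⟶ T} (hX : IsPullback eX gX' u t₀) (e : T' ≅ T'') :
    IsPullback eX (gX' ≫ e.hom) u (e.inv ≫ t₀) := by
  have h1 : IsPullback t₀ e.hom (𝟙 T) (e.inv ≫ t₀) := IsPullback.of_vert_isIso ⟨by simp⟩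
  simpa using hX.paste_vert h1

set_option backward.isDefEq.respectTransparency false in
/-- the generic part over an affine Noetherian integral base. -/
theorem interior_locusPair_nonempty_affine (Q : MorphismProperty Scheme.{u})
    [Q.IsStableUnderBaseChange] (hQ : HasStage Q) (R : Type u) [CommRing R] [IsDomain R]
    [IsNoetherianRing R] {X Y : Scheme.{u}} (u : X ⟶ Spec (CommRingCat.of R))
    (v : Y ⟶ Spec (CommRingCat.of R)) [LocallyOfFiniteType u] [QuasiCompact u]
    [LocallyOfFiniteType v] [QuasiCompact v]
    (hη : genericPoint ↥(Spec (CommRingCat.of R)) ∈ ConsPropPair.locusPair (PairProp Q) u v) :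
    (interior (ConsPropPair.locusPair (PairProp Q) u v)).Nonempty := by
  obtain ⟨T', X', Y', h, gX', gY', eX, eY, hint, hsub, hX, hY, g, hg, hQg⟩ := hη
  have hX₀ : IsPullback (eX ≫ u.fiberι (genericPoint ↥(Spec (CommRingCat.of R)))) gX' u
      (h ≫ (Spec (CommRingCat.of R)).fromSpecResidueField
        (genericPoint ↥(Spec (CommRingCat.of R)))) :=
    hX.paste_horiz (IsPullback.of_hasPullback u _)
  have hY₀ : IsPullback (eY ≫ v.fiberι (genericPoint ↥(Spec (CommRingCat.of R)))) gY' v
      (h ≫ (Spec (CommRingCat.of R)).fromSpecResidueField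
        (genericPoint ↥(Spec (CommRingCat.of R)))) :=
    hY.paste_horiz (IsPullback.of_hasPullback v _)
  have hX₁ := isPullback_of_iso_base hX₀ T'.isoSpec
  have hY₁ := isPullback_of_iso_base hY₀ T'.isoSpec
  have : IsLocallyNoetherian X := LocallyOfFiniteType.isLocallyNoetherian u
  have : IsLocallyNoetherian Y := LocallyOfFiniteType.isLocallyNoetherian v
  obtain ⟨S', π, hπlft, hπqc, X₁, Y₁, u₁, v₁, pX, pY, hpX, hpY, ⟨g₁, hg₁, hQ₁⟩, hrange⟩ :=
    exists_spread Q hQ R u v ↑Γ(T', ⊤)
      (T'.isoSpec.inv ≫ h ≫ (Spec (CommRingCat.of R)).fromSpecResidueField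
        (genericPoint ↥(Spec (CommRingCat.of R)))) hX₁ hY₁ g
      (by rw [← Category.assoc, hg]) hQg
  have hmem : genericPoint ↥(Spec (CommRingCat.of R)) ∈ Set.range π := by
    apply hrange
    obtain ⟨x⟩ := (inferInstance : Nonempty T')
    refine ⟨T'.isoSpec.hom x, ?_⟩
    rw [← Scheme.Hom.comp_apply, Iso.hom_inv_id_assoc, Scheme.Hom.comp_apply,
      Scheme.fromSpecResidueField_apply]
  have hcons : IsConstructible (Set.range π) := by
    rw [← Set.image_univ]
    exact π.isConstructible_image IsConstructible.univ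
  have hd : Dense (Set.range π) := by
    have h1 : Dense ({genericPoint ↥(Spec (CommRingCat.of R))} :
        Set ↥(Spec (CommRingCat.of R))) := by
      rw [dense_iff_closure_eq]
      exact (genericPoint_spec ↥(Spec (CommRingCat.of R))).def
    exact h1.mono (Set.singleton_subset_iff.mpr hmem)
  obtain ⟨U, hUo, ⟨x, hx⟩, hUsub⟩ :=
    (Groth.Agent.Helper1.ConstrL.dense_iff_exists_open_of_isConstructible hcons).mp hd
  refine ⟨x, mem_interior.mpr ⟨U, ?_, hUo, hx⟩⟩
  intro s hs
  obtain ⟨s', rfl⟩ := hUsub hs
  exact mem_locusPair_of_isPullback Q u v π u₁ v₁ pX pY hpX hpY g₁ hg₁ hQ₁ s'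

set_option backward.isDefEq.respectTransparency false in
/-- the general theorem: the relation "geometrically there is a morphism with `Q`" is
ind-constructible, for `Q` stable under base change and descending to finite stages. -/
theorem isIndConsPair_pairProp (Q : MorphismProperty Scheme.{u}) [Q.IsStableUnderBaseChange]
    (hQ : HasStage Q) : ConsPropPair.IsIndConsPair (PairProp Q) := by
  refine ⟨isFieldStablePair_pairProp Q, ?_⟩
  intro X Y S u v _ _ _ _ _ _ hη
  obtain ⟨V, hV, hne⟩ : ∃ V : S.Opens, IsAffineOpen V ∧ Nonempty ↥V := by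
    obtain ⟨x⟩ := (inferInstance : Nonempty S)
    obtain ⟨_, ⟨V, hV : IsAffineOpen V, rfl⟩, hxV, -⟩ :=
      S.isBasis_affineOpens.exists_subset_of_mem_open (a := x) (Set.mem_univ x) isOpen_univ
    exact ⟨V, hV, ⟨⟨x, hxV⟩⟩⟩
  have hloc := locusPair_eq_preimage (isFieldStablePair_pairProp Q) u v hV.fromSpec
    (pullback.snd u hV.fromSpec) (pullback.snd v hV.fromSpec) (pullback.fst u hV.fromSpec)
    (pullback.fst v hV.fromSpec) (IsPullback.of_hasPullback u hV.fromSpec)
    (IsPullback.of_hasPullback v hV.fromSpec)
  have : IsDomain ↑Γ(S, V) := @IsIntegral.component_integral S _ V hne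
  have : IsNoetherianRing ↑Γ(S, V) := IsLocallyNoetherian.component_noetherian ⟨V, hV⟩
  have hgen : hV.fromSpec (genericPoint ↥(Spec Γ(S, V))) = genericPoint ↥S :=
    genericPoint_eq_of_isOpenImmersion hV.fromSpec
  obtain ⟨x, hx⟩ := interior_locusPair_nonempty_affine Q hQ ↑Γ(S, V)
    (pullback.snd u hV.fromSpec) (pullback.snd v hV.fromSpec) (by
      rw [hloc]
      refine Set.mem_preimage.mpr ?_
      have h2 : hV.fromSpec (genericPoint ↥(Spec (CommRingCat.of ↑Γ(S, V)))) =
          genericPoint ↥S := hgen
      rw [h2]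
      exact hη)
  rw [hloc] at hx
  refine ⟨hV.fromSpec x, ?_⟩
  rw [← hV.fromSpec.isOpenEmbedding.isOpenMap.preimage_interior_eq_interior_preimage
    hV.fromSpec.continuous] at hx
  exact hx

end Groth.Agent.Helper7.ConsPair
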