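import Mathlib
import Groth.Prelude.Def_ProCons
import Groth.Agent.Lib.Helper7.ProConsLib7
import Groth.Agent.Lib.Helper7.GRLocus.Top

set_option autoImplicit false
set_option linter.style.haveILetI false
set_option linter.unusedVariables false
set_option linter.unusedSectionVars false
set_option backward.isDefEq.respectTransparency.types false

open CategoryTheory CategoryTheory.Limits AlgebraicGeometry Opposite Topology TopologicalSpace

universe u

/-! helper7: criteria for (ind-)constructibility of a subset of a Noetherian affine scheme in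
terms of its traces on the integral closed subschemes, and localisation on affine opens. -/

namespace Groth.Agent.Helper7.ConsPair

open Groth.Agent.Helper7.ProConsLib

section Prime

variable (A : Type u) [CommRing A]

/-- the closed immersion of the integral closed subscheme with generic point `x`. -/
noncomputable abbrev primeIncl (x : ↥(Spec (CommRingCat.of A))) :
    Spec (CommRingCat.of (A ⧸ x.asIdeal)) ⟶ Spec (CommRingCat.of A) :=
  Spec.map (CommRingCat.ofHom (Ideal.Quotient.mk x.asIdeal))

theorem range_primeIncl (x : ↥(Spec (CommRingCat.of A))) :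
    Set.range (primeIncl A x) = closure {x} := by
  have h1 : Set.range (primeIncl A x) =
      PrimeSpectrum.zeroLocus (RingHom.ker (Ideal.Quotient.mk x.asIdeal)) :=
    range_comap_of_surjective _ _ Ideal.Quotient.mk_surjective
  rw [h1, Ideal.mk_ker]
  exact (PrimeSpectrum.closure_singleton x).symm

theorem primeIncl_genericPoint (x : ↥(Spec (CommRingCat.of A))) :
    primeIncl A x (genericPoint ↥(Spec (CommRingCat.of (A ⧸ x.asIdeal)))) = x := by
  have h1 : IsGenericPoint (primeIncl A x (genericPoint ↥(Spec (CommRingCat.of (A ⧸ x.asIdeal)))))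
      (closure ((primeIncl A x) '' ⊤)) :=
    (genericPoint_spec ↥(Spec (CommRingCat.of (A ⧸ x.asIdeal)))).image (primeIncl A x).continuous
  have h2 : closure ((primeIncl A x) '' ⊤) = closure {x} := by
    rw [Set.top_eq_univ, Set.image_univ, range_primeIncl, closure_closure]
  rw [h2] at h1
  exact h1.eq isGenericPoint_closure

/-- an open subset of the integral closed subscheme is the trace of an open subset. -/
theorem exists_open_of_primeIncl (x : ↥(Spec (CommRingCat.of A)))
    {O : Set ↥(Spec (CommRingCat.of (A ⧸ x.asIdeal)))} (hO : IsOpen O) (hne : O.Nonempty) :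
    ∃ O' : Set ↥(Spec (CommRingCat.of A)), IsOpen O' ∧ x ∈ O' ∧
      ∀ y ∈ O' ∩ closure {x}, ∃ z ∈ O, primeIncl A x z = y := by
  have hemb : IsClosedEmbedding (primeIncl A x) :=
    PrimeSpectrum.isClosedEmbedding_comap_of_surjective _ _ Ideal.Quotient.mk_surjective
  obtain ⟨O', hO', hOeq⟩ := hemb.isEmbedding.isInducing.isOpen_iff.mp hO
  refine ⟨O', hO', ?_, ?_⟩
  · have hgen : genericPoint ↥(Spec (CommRingCat.of (A ⧸ x.asIdeal))) ∈ O := by
      rw [(genericPoint_spec ↥(Spec (CommRingCat.of (A ⧸ x.asIdeal)))).mem_open_set_iff hO]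
      simpa using hne
    rw [← hOeq] at hgen
    have := hgen
    rw [Set.mem_preimage, primeIncl_genericPoint] at this
    exact this
  · rintro y ⟨hyO', hycl⟩
    rw [← range_primeIncl] at hycl
    obtain ⟨z, rfl⟩ := hycl
    refine ⟨z, ?_, rfl⟩
    rw [← hOeq]
    exact hyO'

variable [IsNoetherianRing A]

/-- criterion for ind-constructibility over a Noetherian ring. -/
theorem isIndConstructible_of_forall_prime (E : Set ↥(Spec (CommRingCat.of A)))
    (H : ∀ x : ↥(Spec (CommRingCat.of A)), x ∈ E →
      (interior ((primeIncl A x) ⁻¹' E)).Nonempty) :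
    ProCons.IsIndConstructible E := by
  apply isIndConstructible_of_forall_exists
  intro x₀
  have hs := spectralSpace_affineOpen (Spec (CommRingCat.of A))
    ⟨⊤, isAffineOpen_top (Spec (CommRingCat.of A))⟩
  refine ⟨((⊤ : (Spec (CommRingCat.of A)).Opens) : Set ↥(Spec (CommRingCat.of A))), isOpen_univ,
    hs, trivial, ?_⟩
  haveI := hs
  apply isOpen_cons_of_forall_mem_nhds_closure
  intro x hx
  obtain ⟨O', hO', hxO', hsub⟩ := exists_open_of_primeIncl A x isOpen_interior (H x hx)
  rw [mem_nhds_iff]
  refine ⟨Subtype.val ⁻¹' O', ?_, hO'.preimage continuous_subtype_val, hxO'⟩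
  rintro ⟨y, hy⟩ hyO'
  obtain ⟨z, hz, rfl⟩ := hsub y ⟨hyO', hy⟩
  have h3 : z ∈ (primeIncl A x) ⁻¹' E := interior_subset hz
  exact h3

/-- criterion for constructibility over a Noetherian ring. -/
theorem isConstructible_of_forall_prime (E : Set ↥(Spec (CommRingCat.of A)))
    (H : ∀ x : ↥(Spec (CommRingCat.of A)), (interior ((primeIncl A x) ⁻¹' E)).Nonempty ∨
      (interior ((primeIncl A x) ⁻¹' E)ᶜ).Nonempty) :
    IsConstructible E := by
  apply Groth.Agent.Helper7.GRLocus.isConstructible_of_forall_irreducible_or
  intro Y hYc hYirr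
  obtain ⟨x, hx⟩ := QuasiSober.sober hYirr hYc
  have hYx : closure {x} = Y := hx.def
  rcases H x with h | h
  · obtain ⟨O', hO', hxO', hsub⟩ := exists_open_of_primeIncl A x isOpen_interior h
    refine ⟨O', hO', ⟨x, hxO', hYx ▸ subset_closure rfl⟩, Or.inl ?_⟩
    rintro y ⟨hyO', hyY⟩
    obtain ⟨z, hz, rfl⟩ := hsub y ⟨hyO', hYx ▸ hyY⟩
    have h3 : z ∈ (primeIncl A x) ⁻¹' E := interior_subset hz
    exact h3
  · obtain ⟨O', hO', hxO', hsub⟩ := exists_open_of_primeIncl A x isOpen_interior h
    refine ⟨O', hO', ⟨x, hxO', hYx ▸ subset_closure rfl⟩, Or.inr ?_⟩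
    rintro y ⟨hyO', hyY⟩
    obtain ⟨z, hz, rfl⟩ := hsub y ⟨hyO', hYx ▸ hyY⟩
    have h3 : z ∈ ((primeIncl A x) ⁻¹' E)ᶜ := interior_subset hz
    exact h3

end Prime

section Local

variable {S : Scheme.{u}}

/-- ind-constructibility is local on affine opens. -/
theorem isIndConstructible_of_forall_affineOpen (E : Set S)
    (H : ∀ (V : S.Opens) (hV : IsAffineOpen V), ProCons.IsIndConstructible (hV.fromSpec ⁻¹' E)) :
    ProCons.IsIndConstructible E := by
  apply isIndConstructible_of_forall_exists
  intro x
  obtain ⟨U, hxU⟩ := exists_affineOpen_mem S x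
  have hs := spectralSpace_affineOpen S U
  refine ⟨((U : S.Opens) : Set S), (U : S.Opens).2, hs, hxU, ?_⟩
  have hU : IsAffineOpen (U : S.Opens) := U.2
  have h1 := isIndConstructible_image hU.fromSpec (H U hU)
  rw [Set.image_preimage_eq_inter_range, hU.range_fromSpec] at h1
  have h2 := isOpen_cons_of_isIndConstructible
    (isIndConstructible_preimage_val h1 (U : S.Opens).2)
  have e : (Subtype.val ⁻¹' E : Set ((U : S.Opens) : Set S)) =
      Subtype.val ⁻¹' (E ∩ ((U : S.Opens) : Set S)) := by
    ext y
    simp only [Set.mem_preimage, Set.mem_inter_iff]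
    exact ⟨fun h => ⟨h, y.2⟩, fun h => h.1⟩
  rw [e]
  exact h2

/-- local constructibility can be checked on affine opens. -/
theorem isLocallyConstructible_of_forall_affineOpen (E : Set S)
    (H : ∀ (V : S.Opens) (hV : IsAffineOpen V), IsLocallyConstructible (hV.fromSpec ⁻¹' E)) :
    IsLocallyConstructible E := by
  apply isLocallyConstructible_of_ind_of_pro S
  · exact isIndConstructible_of_forall_affineOpen E fun V hV =>
      isIndConstructible_of_isLocallyConstructible (H V hV)
  · have h1 : ProCons.IsIndConstructible Eᶜ :=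
      isIndConstructible_of_forall_affineOpen Eᶜ fun V hV => by
        rw [Set.preimage_compl]
        exact isIndConstructible_of_isLocallyConstructible (isLocallyConstructible_compl (H V hV))
    have h2 := isProConstructible_compl h1
    rwa [compl_compl] at h2

end Local

end Groth.Agent.Helper7.ConsPair
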