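import Mathlib
import Groth.Agent.Lib.Helper7.ConsPair.Basic
import Groth.Agent.Lib.Helper7.ConsPair.Top
import Groth.Agent.Lib.Helper7.FGSub2

set_option autoImplicit false
set_option linter.style.haveILetI false
set_option linter.unusedVariables false
set_option linter.unusedSectionVars false
set_option backward.isDefEq.respectTransparency.types false

open CategoryTheory CategoryTheory.Limits AlgebraicGeometry Opposite Topology TopologicalSpace

universe u

/-! helper7: the locus of a constructible (ind-constructible) relation between two schemes in a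
family of finite presentation is locally constructible (ind-constructible). -/

namespace Groth.Agent.Helper7.ConsPair

open Groth.Agent.Helper7.ProConsLib Groth.Agent.Helper7.LimDesc Groth.Agent.Helper7

set_option backward.isDefEq.respectTransparency false in
/-- two morphisms of finite presentation to an affine scheme come by base change from morphisms
of finite presentation to the spectrum of a common Noetherian ring. -/
theorem exists_noetherian_model_pair (A : Type u) [CommRing A] {X Y : Scheme.{u}}
    (u : X ⟶ Spec (CommRingCat.of A)) (v : Y ⟶ Spec (CommRingCat.of A))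
    [LocallyOfFinitePresentation u] [QuasiCompact u] [QuasiSeparated u]
    [LocallyOfFinitePresentation v] [QuasiCompact v] [QuasiSeparated v] :
    ∃ (A₀ : Type u) (_ : CommRing A₀) (_ : IsNoetherianRing A₀)
      (π : Spec (CommRingCat.of A) ⟶ Spec (CommRingCat.of A₀)) (X₀ Y₀ : Scheme.{u})
      (u₀ : X₀ ⟶ Spec (CommRingCat.of A₀)) (v₀ : Y₀ ⟶ Spec (CommRingCat.of A₀))
      (qX : X ⟶ X₀) (qY : Y ⟶ Y₀), LocallyOfFinitePresentation u₀ ∧ QuasiCompact u₀ ∧
        LocallyOfFinitePresentation v₀ ∧ QuasiCompact v₀ ∧
        IsPullback qX u u₀ π ∧ IsPullback qY v v₀ π := by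
  obtain ⟨j₁, ⟨M₁⟩⟩ := desc_of_finitePresentation (FGSub.isLimit_specCone A).some u
  obtain ⟨j₂, ⟨M₂⟩⟩ := desc_of_finitePresentation (FGSub.isLimit_specCone A).some v
  obtain ⟨j, φ₁, φ₂, -⟩ := IsCofilteredOrEmpty.cone_objs j₁ j₂
  have hN : IsNoetherianRing ↥j.unop.1 := by
    have : Algebra.FiniteType ℤ ↥j.unop.1 := (Subalgebra.fg_iff_finiteType _).mp j.unop.2
    exact Algebra.FiniteType.isNoetherianRing ℤ _
  exact ⟨↥j.unop.1, inferInstance, hN, (FGSub.specCone A).π.app j, (M₁.stage φ₁).Zj,
    (M₂.stage φ₂).Zj, (M₁.stage φ₁).zj, (M₂.stage φ₂).zj, (M₁.stage φ₁).q, (M₂.stage φ₂).q,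
    (M₁.stage φ₁).lfp, (M₁.stage φ₁).qc, (M₂.stage φ₂).lfp, (M₂.stage φ₂).qc,
    (M₁.stage φ₁).isPullback, (M₂.stage φ₂).isPullback⟩

section Pair

variable {P : ∀ ⦃X Y T : Scheme.{u}⦄, (X ⟶ T) → (Y ⟶ T) → Prop}

set_option backward.isDefEq.respectTransparency false in
/-- the locus of an ind-constructible relation over a Noetherian affine base. -/
theorem isIndConstructible_locusPair_noeth (hP : ConsPropPair.IsIndConsPair P) (A : Type u)
    [CommRing A] [IsNoetherianRing A] {X Y : Scheme.{u}} (u : X ⟶ Spec (CommRingCat.of A))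
    (v : Y ⟶ Spec (CommRingCat.of A)) [LocallyOfFiniteType u] [QuasiCompact u]
    [LocallyOfFiniteType v] [QuasiCompact v] :
    ProCons.IsIndConstructible (ConsPropPair.locusPair P u v) := by
  apply isIndConstructible_of_forall_prime
  intro x hx
  have hloc := locusPair_eq_preimage hP.1 u v (primeIncl A x)
    (pullback.snd u (primeIncl A x)) (pullback.snd v (primeIncl A x))
    (pullback.fst u (primeIncl A x)) (pullback.fst v (primeIncl A x))
    (IsPullback.of_hasPullback u (primeIncl A x)) (IsPullback.of_hasPullback v (primeIncl A x))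
  rw [← hloc]
  apply hP.2
  rw [hloc, Set.mem_preimage, primeIncl_genericPoint]
  exact hx

set_option backward.isDefEq.respectTransparency false in
/-- the locus of a constructible relation over a Noetherian affine base. -/
theorem isConstructible_locusPair_noeth (hP : ConsPropPair.IsConsPair P) (A : Type u)
    [CommRing A] [IsNoetherianRing A] {X Y : Scheme.{u}} (u : X ⟶ Spec (CommRingCat.of A))
    (v : Y ⟶ Spec (CommRingCat.of A)) [LocallyOfFiniteType u] [QuasiCompact u]
    [LocallyOfFiniteType v] [QuasiCompact v] :
    IsConstructible (ConsPropPair.locusPair P u v) := by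
  apply isConstructible_of_forall_prime
  intro x
  have hloc := locusPair_eq_preimage hP.1 u v (primeIncl A x)
    (pullback.snd u (primeIncl A x)) (pullback.snd v (primeIncl A x))
    (pullback.fst u (primeIncl A x)) (pullback.fst v (primeIncl A x))
    (IsPullback.of_hasPullback u (primeIncl A x)) (IsPullback.of_hasPullback v (primeIncl A x))
  rw [← hloc]
  exact hP.2 _ _

/-- **ind-constructible case**: the locus of an ind-constructible relation in a family of finite
presentation is ind-constructible. -/
theorem isIndConstructible_locusPair (hP : ConsPropPair.IsIndConsPair P) {X Y S : Scheme.{u}}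
    (u : X ⟶ S) (v : Y ⟶ S)
    [LocallyOfFinitePresentation u] [QuasiCompact u] [QuasiSeparated u]
    [LocallyOfFinitePresentation v] [QuasiCompact v] [QuasiSeparated v] :
    ProCons.IsIndConstructible (ConsPropPair.locusPair P u v) := by
  apply isIndConstructible_of_forall_affineOpen
  intro V hV
  rw [← locusPair_eq_preimage hP.1 u v hV.fromSpec
    (pullback.snd u hV.fromSpec) (pullback.snd v hV.fromSpec) (pullback.fst u hV.fromSpec)
    (pullback.fst v hV.fromSpec) (IsPullback.of_hasPullback u hV.fromSpec)
    (IsPullback.of_hasPullback v hV.fromSpec)]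
  obtain ⟨A₀, _, _, π, X₀, Y₀, u₀, v₀, qX, qY, _, _, _, _, hX, hY⟩ :=
    exists_noetherian_model_pair ↑Γ(S, V) (pullback.snd u hV.fromSpec)
      (pullback.snd v hV.fromSpec)
  rw [locusPair_eq_preimage hP.1 u₀ v₀ π _ _ qX qY hX hY]
  exact isIndConstructible_preimage π (isIndConstructible_locusPair_noeth hP A₀ u₀ v₀)

/-- **constructible case**: the locus of a constructible relation in a family of finite
presentation is locally constructible. -/
theorem isLocallyConstructible_locusPair (hP : ConsPropPair.IsConsPair P) {X Y S : Scheme.{u}}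
    (u : X ⟶ S) (v : Y ⟶ S)
    [LocallyOfFinitePresentation u] [QuasiCompact u] [QuasiSeparated u]
    [LocallyOfFinitePresentation v] [QuasiCompact v] [QuasiSeparated v] :
    IsLocallyConstructible (ConsPropPair.locusPair P u v) := by
  apply isLocallyConstructible_of_forall_affineOpen
  intro V hV
  rw [← locusPair_eq_preimage hP.1 u v hV.fromSpec
    (pullback.snd u hV.fromSpec) (pullback.snd v hV.fromSpec) (pullback.fst u hV.fromSpec)
    (pullback.fst v hV.fromSpec) (IsPullback.of_hasPullback u hV.fromSpec)
    (IsPullback.of_hasPullback v hV.fromSpec)]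
  obtain ⟨A₀, _, _, π, X₀, Y₀, u₀, v₀, qX, qY, _, _, _, _, hX, hY⟩ :=
    exists_noetherian_model_pair ↑Γ(S, V) (pullback.snd u hV.fromSpec)
      (pullback.snd v hV.fromSpec)
  rw [locusPair_eq_preimage hP.1 u₀ v₀ π _ _ qX qY hX hY]
  exact isLocallyConstructible_preimage π
    (isConstructible_locusPair_noeth hP A₀ u₀ v₀).isLocallyConstructible

end Pair

end Groth.Agent.Helper7.ConsPair
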