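import Mathlib
import Groth.Agent.Lib.Helper7.ConsPair.Locus
import Groth.Agent.Lib.Helper7.LimGen2

set_option autoImplicit false
set_option linter.style.haveILetI false
set_option linter.unusedVariables false
set_option linter.unusedSectionVars false
set_option backward.isDefEq.respectTransparency.types false

open CategoryTheory CategoryTheory.Limits AlgebraicGeometry Opposite Topology TopologicalSpace

universe u

/-! helper7: ind-constructible relations between two schemes and cofiltered limits: the relation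
holds on all fibres over the limit iff it does at a finite stage. -/

namespace Groth.Agent.Helper7.ConsPair

open Groth.Agent.Helper7.ProConsLib Groth.Agent.Helper7

variable {I : Type u} [Category.{u} I] [IsCofiltered I] (D : I ⥤ Scheme.{u}) (c : Cone D)
  (hc : IsLimit c) [∀ {i j : I} (f : i ⟶ j), IsAffineHom (D.map f)]

set_option backward.isDefEq.respectTransparency false in
include hc in
/-- an ind-constructible subset of a quasi-compact stage whose preimage in the limit is
everything has full preimage at a finite stage. -/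
theorem exists_stage_preimage_eq_univ (i₀ : I) [CompactSpace ↥(D.obj i₀)]
    {E : Set ↥(D.obj i₀)} (hE : ProCons.IsIndConstructible E)
    (h : ∀ s : ↥c.pt, c.π.app i₀ s ∈ E) :
    ∃ (j : I) (φ : j ⟶ i₀), ∀ t : ↥(D.obj j), D.map φ t ∈ E := by
  obtain ⟨j, φ, hj⟩ := LimGen.exists_preimage_eq_empty D c hc (𝟙 (D.obj i₀))
    (isProConstructible_compl hE) (by
      rw [Set.eq_empty_iff_forall_notMem]
      intro z hz
      apply hz
      have h1 : pullback.fst (𝟙 (D.obj i₀)) (c.π.app i₀) =
          pullback.snd (𝟙 (D.obj i₀)) (c.π.app i₀) ≫ c.π.app i₀ := by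
        rw [← pullback.condition, Category.comp_id]
      rw [h1, Scheme.Hom.comp_apply]
      exact h _)
  refine ⟨j, φ, fun t => ?_⟩
  obtain ⟨z, -, hz⟩ := Scheme.Pullback.exists_preimage_pullback (f := 𝟙 (D.obj i₀))
    (g := D.map φ) (D.map φ t) t rfl
  by_contra hn
  have hmem : z ∈ (pullback.fst (𝟙 (D.obj i₀)) (D.map φ)) ⁻¹' Eᶜ := by
    have h1 : pullback.fst (𝟙 (D.obj i₀)) (D.map φ) =
        pullback.snd (𝟙 (D.obj i₀)) (D.map φ) ≫ D.map φ := by
      rw [← pullback.condition, Category.comp_id]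
    rw [Set.mem_preimage, h1, Scheme.Hom.comp_apply, hz]
    exact hn
  rw [hj] at hmem
  exact hmem

set_option backward.isDefEq.respectTransparency false in
include hc in
/-- the limit statement for ind-constructible relations between two schemes. -/
theorem forall_mem_locusPair_iff {P : ∀ ⦃X Y T : Scheme.{u}⦄, (X ⟶ T) → (Y ⟶ T) → Prop}
    (hP : ConsPropPair.IsIndConsPair P) (i₀ : I) [CompactSpace ↥(D.obj i₀)]
    {X₀ Y₀ : Scheme.{u}} (u₀ : X₀ ⟶ D.obj i₀) (v₀ : Y₀ ⟶ D.obj i₀)
    [LocallyOfFinitePresentation u₀] [QuasiCompact u₀] [QuasiSeparated u₀]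
    [LocallyOfFinitePresentation v₀] [QuasiCompact v₀] [QuasiSeparated v₀]
    {X Y : Scheme.{u}} (u : X ⟶ c.pt) (v : Y ⟶ c.pt) (qX : X ⟶ X₀) (qY : Y ⟶ Y₀)
    (hX : IsPullback qX u u₀ (c.π.app i₀)) (hY : IsPullback qY v v₀ (c.π.app i₀)) :
    (∀ s : ↥c.pt, s ∈ ConsPropPair.locusPair P u v) ↔
      ∃ (j : I) (φ : j ⟶ i₀) (Xj Yj : Scheme.{u}) (uj : Xj ⟶ D.obj j) (vj : Yj ⟶ D.obj j)
        (pX : Xj ⟶ X₀) (pY : Yj ⟶ Y₀), IsPullback pX uj u₀ (D.map φ) ∧
          IsPullback pY vj v₀ (D.map φ) ∧
          ∀ t : ↥(D.obj j), t ∈ ConsPropPair.locusPair P uj vj := by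
  constructor
  · intro hall
    have hloc := locusPair_eq_preimage hP.1 u₀ v₀ (c.π.app i₀) u v qX qY hX hY
    obtain ⟨j, φ, hj⟩ := exists_stage_preimage_eq_univ D c hc i₀
      (isIndConstructible_locusPair hP u₀ v₀) (fun s => by
        have := hall s
        rw [hloc] at this
        exact this)
    refine ⟨j, φ, pullback u₀ (D.map φ), pullback v₀ (D.map φ), pullback.snd _ _,
      pullback.snd _ _, pullback.fst _ _, pullback.fst _ _, IsPullback.of_hasPullback _ _,
      IsPullback.of_hasPullback _ _, fun t => ?_⟩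
    rw [locusPair_eq_preimage hP.1 u₀ v₀ (D.map φ) _ _ _ _ (IsPullback.of_hasPullback _ _)
      (IsPullback.of_hasPullback _ _)]
    exact hj t
  · rintro ⟨j, φ, Xj, Yj, uj, vj, pX, pY, hXj, hYj, hall⟩ s
    have : LocallyOfFiniteType uj := MorphismProperty.of_isPullback hXj inferInstance
    have : QuasiCompact uj := MorphismProperty.of_isPullback hXj inferInstance
    have : LocallyOfFiniteType vj := MorphismProperty.of_isPullback hYj inferInstance
    have : QuasiCompact vj := MorphismProperty.of_isPullback hYj inferInstance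
    obtain ⟨rX, -, hrX⟩ := exists_isPullback_of_fac hXj (c.π.app j) (c.π.app i₀) (c.w φ) hX
    obtain ⟨rY, -, hrY⟩ := exists_isPullback_of_fac hYj (c.π.app j) (c.π.app i₀) (c.w φ) hY
    rw [locusPair_eq_preimage hP.1 uj vj (c.π.app j) u v rX rY hrX hrY]
    exact hall _

end Groth.Agent.Helper7.ConsPair
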