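import Mathlib
import Groth.Prelude.Def_MoreMor
import Groth.Agent.Lib.Helper7.ConsPair.Generic
import Groth.Agent.Lib.Helper7.LimGen3
import Groth.Agent.Lib.Helper7.LimQAff
import Groth.Agent.Lib.Helper7.LimQF

set_option autoImplicit false
set_option linter.style.haveILetI false
set_option linter.unusedVariables false
set_option linter.unusedSectionVars false
set_option backward.isDefEq.respectTransparency.types false

open CategoryTheory CategoryTheory.Limits AlgebraicGeometry Opposite Topology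

universe u

/-! helper7: descent to finite stages for the morphism properties used in the relations between
pairs of algebraic schemes. -/

namespace Groth.Agent.Helper7.ConsPair

open Groth.Agent.Helper7.LimStage Groth.Agent.Helper7

theorem hasStage_isomorphisms : HasStage (MorphismProperty.isomorphisms Scheme.{u}) := by
  intro I _ _ D c hc _ i₀ X₀ Y₀ f₀ g₀ _ _ _ _ h
  exact LimGen.exists_stage_isIso D c hc f₀ g₀ h

theorem hasStage_monomorphisms : HasStage (MorphismProperty.monomorphisms Scheme.{u}) := by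
  intro I _ _ D c hc _ i₀ X₀ Y₀ f₀ g₀ _ _ _ _ h
  exact LimGen.exists_stage_mono D c hc f₀ g₀ h

theorem hasStage_surjective : HasStage @Surjective.{u} := by
  intro I _ _ D c hc _ i₀ X₀ Y₀ f₀ g₀ _ _ _ _ h
  exact LimGen.exists_stage_surjective D c hc f₀ g₀ h

theorem hasStage_universallyInjective : HasStage @UniversallyInjective.{u} := by
  intro I _ _ D c hc _ i₀ X₀ Y₀ f₀ g₀ _ _ _ _ h
  exact LimGen.exists_stage_universallyInjective D c hc f₀ g₀ h

theorem hasStage_isClosedImmersion : HasStage @IsClosedImmersion.{u} := by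
  intro I _ _ D c hc _ i₀ X₀ Y₀ f₀ g₀ _ _ _ _ h
  exact LimGen.exists_stage_isClosedImmersion' D c hc f₀ g₀ h

theorem hasStage_isFinite : HasStage @IsFinite.{u} := by
  intro I _ _ D c hc _ i₀ X₀ Y₀ f₀ g₀ _ _ _ _ h
  exact LimGen.exists_stage_isFinite' D c hc f₀ g₀ h

theorem hasStage_isAffineHom : HasStage @IsAffineHom.{u} := by
  intro I _ _ D c hc _ i₀ X₀ Y₀ f₀ g₀ _ _ _ _ h
  exact LimGen.exists_stage_isAffineHom' D c hc f₀ g₀ h

theorem hasStage_isSeparated : HasStage @IsSeparated.{u} := by
  intro I _ _ D c hc _ i₀ X₀ Y₀ f₀ g₀ _ _ _ _ h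
  exact LimGen.exists_stage_isSeparated' D c hc f₀ g₀ h

theorem hasStage_isOpenImmersion : HasStage @IsOpenImmersion.{u} := by
  intro I _ _ D c hc _ i₀ X₀ Y₀ f₀ g₀ _ _ _ _ h
  exact LimGen.exists_stage_isOpenImmersion D c hc f₀ g₀ h

theorem hasStage_isImmersion : HasStage @IsImmersion.{u} := by
  intro I _ _ D c hc _ i₀ X₀ Y₀ f₀ g₀ _ _ _ _ h
  exact LimGen.exists_stage_isImmersion D c hc f₀ g₀ h

/-- quasi-affine morphisms in the form of the statements. -/
def qaff : MorphismProperty Scheme.{u} := fun _ _ g => MoreMor.IsQuasiAffineHom g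

theorem qaff_eq : qaff.{u} = QAff.P := by
  ext X Y g
  exact (QAff.P_iff g).symm

instance : qaff.{u}.IsStableUnderBaseChange := by
  rw [qaff_eq]
  infer_instance

theorem hasStage_qaff : HasStage qaff.{u} := by
  rw [qaff_eq]
  intro I _ _ D c hc _ i₀ X₀ Y₀ f₀ g₀ _ _ _ _ h
  exact LimQAff.exists_stage_quasiAffine D c hc f₀ g₀ h

/-- quasi-finite morphisms in the form of the statements. -/
def qfin : MorphismProperty Scheme.{u} :=
  fun _ _ g => LocallyOfFiniteType g ∧ QuasiCompact g ∧ LocallyQuasiFinite g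

theorem qfin_eq : qfin.{u} = (@LocallyOfFiniteType ⊓
    (@QuasiCompact ⊓ @LocallyQuasiFinite : MorphismProperty Scheme.{u}) :
      MorphismProperty Scheme.{u}) := by
  ext X Y g
  exact Iff.rfl

instance : qfin.{u}.IsStableUnderBaseChange := by
  rw [qfin_eq]
  infer_instance

theorem hasStage_qfin : HasStage qfin.{u} := by
  intro I _ _ D c hc _ i₀ X₀ Y₀ f₀ g₀ _ _ _ _ h
  obtain ⟨j, φ, hj⟩ := LimQF.exists_stage_locallyQuasiFinite D c hc f₀ g₀ h.2.2
  exact ⟨j, φ, MorphismProperty.of_isPullback (isPullback_bcHom f₀ g₀ (D.map φ)) inferInstance,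
    MorphismProperty.of_isPullback (isPullback_bcHom f₀ g₀ (D.map φ)) inferInstance, hj⟩

end Groth.Agent.Helper7.ConsPair
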