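import Mathlib
import Groth.Agent.Lib.Helper7.ConsPair.Props

set_option autoImplicit false
set_option linter.style.haveILetI false
set_option linter.unusedVariables false
set_option linter.unusedSectionVars false
set_option backward.isDefEq.respectTransparency.types false

open CategoryTheory CategoryTheory.Limits AlgebraicGeometry Opposite Topology

universe u

/-! helper7: a morphism with a stage-descending property between the base changes of two
algebraic schemes over a field to an extension exists already over a finite extension. -/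

namespace Groth.Agent.Helper7.ConsPair

open Groth.Agent.Helper7.LimStage Groth.Agent.Helper7

set_option backward.isDefEq.respectTransparency false in
/-- two algebraic schemes over a field `k` between whose base changes to some extension there is
a morphism with `Q` have such a morphism already over a finite extension of `k`. -/
theorem exists_finite_extension (Q : MorphismProperty Scheme.{u}) [Q.IsStableUnderBaseChange]
    (hQ : HasStage Q) {k : Type u} [Field k] {X Y : Scheme.{u}}
    (p : X ⟶ Spec (CommRingCat.of k)) (q : Y ⟶ Spec (CommRingCat.of k))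
    [LocallyOfFiniteType p] [QuasiCompact p] [LocallyOfFiniteType q] [QuasiCompact q]
    (K : Type u) [Field K] [Algebra k K]
    (g : pullback p (Spec.map (CommRingCat.ofHom (algebraMap k K))) ⟶
      pullback q (Spec.map (CommRingCat.ofHom (algebraMap k K))))
    (hg : g ≫ pullback.snd q (Spec.map (CommRingCat.ofHom (algebraMap k K))) =
      pullback.snd p (Spec.map (CommRingCat.ofHom (algebraMap k K))))
    (hQg : Q g) :
    ∃ (k' : Type u) (_ : Field k') (_ : Algebra k k') (_ : Module.Finite k k')
      (g' : pullback p (Spec.map (CommRingCat.ofHom (algebraMap k k'))) ⟶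
        pullback q (Spec.map (CommRingCat.ofHom (algebraMap k k')))),
      g' ≫ pullback.snd q (Spec.map (CommRingCat.ofHom (algebraMap k k'))) =
        pullback.snd p (Spec.map (CommRingCat.ofHom (algebraMap k k'))) ∧ Q g' := by
  have : IsLocallyNoetherian X := LocallyOfFiniteType.isLocallyNoetherian p
  have : IsLocallyNoetherian Y := LocallyOfFiniteType.isLocallyNoetherian q
  obtain ⟨S', π, hπlft, hπqc, X₁, Y₁, u₁, v₁, pX, pY, hpX, hpY, ⟨g₁, hg₁, hQ₁⟩, hrange⟩ :=
    exists_spread Q hQ k p q K (Spec.map (CommRingCat.ofHom (algebraMap k K)))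
      (IsPullback.of_hasPullback p _) (IsPullback.of_hasPullback q _) g hg hQg
  have hne : (Set.univ : Set ↥S').Nonempty := by
    obtain ⟨x⟩ : Nonempty ↥(Spec (CommRingCat.of K)) := inferInstance
    obtain ⟨s, -⟩ := hrange ⟨x, rfl⟩
    exact ⟨s, trivial⟩
  have : JacobsonSpace ↥S' := LocallyOfFiniteType.jacobsonSpace π
  obtain ⟨s', -, hs'⟩ := nonempty_inter_closedPoints hne isOpen_univ.isLocallyClosed
  have hs'c : IsClosed ({s'} : Set ↥S') := hs'
  have hci := isClosed_singleton_iff_isClosedImmersion.mp hs'c
  have hfin : IsFinite (S'.fromSpecResidueField s' ≫ π) :=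
    (isFinite_iff_locallyOfFiniteType_of_jacobsonSpace
      (f := S'.fromSpecResidueField s' ≫ π)).mpr inferInstance
  let ψ : CommRingCat.of k ⟶ S'.residueField s' :=
    Spec.preimage (S'.fromSpecResidueField s' ≫ π)
  have hψ : Spec.map ψ = S'.fromSpecResidueField s' ≫ π := Spec.map_preimage _
  letI : Algebra k ↑(S'.residueField s') := ψ.hom.toAlgebra
  have hfin' : Module.Finite k ↑(S'.residueField s') := by
    have h1 : IsFinite (Spec.map ψ) := by rw [hψ]; exact hfin
    exact (IsFinite.SpecMap_iff ψ).mp h1
  have hτ : S'.fromSpecResidueField s' ≫ π =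
      Spec.map (CommRingCat.ofHom (algebraMap k ↑(S'.residueField s'))) := hψ.symm
  obtain ⟨rX, -, hrX⟩ := exists_isPullback_of_fac hpX (S'.fromSpecResidueField s') _ hτ
    (IsPullback.of_hasPullback p
      (Spec.map (CommRingCat.ofHom (algebraMap k ↑(S'.residueField s')))))
  obtain ⟨rY, -, hrY⟩ := exists_isPullback_of_fac hpY (S'.fromSpecResidueField s') _ hτ
    (IsPullback.of_hasPullback q
      (Spec.map (CommRingCat.ofHom (algebraMap k ↑(S'.residueField s')))))
  have hcomm : (rX ≫ g₁) ≫ v₁ = pullback.snd p
      (Spec.map (CommRingCat.ofHom (algebraMap k ↑(S'.residueField s')))) ≫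
        S'.fromSpecResidueField s' := by
    rw [Category.assoc, hg₁, hrX.w]
  refine ⟨↑(S'.residueField s'), inferInstance, inferInstance, hfin',
    hrY.lift (rX ≫ g₁) (pullback.snd p _) hcomm, hrY.lift_snd _ _ _, ?_⟩
  have hsq : IsPullback rX (hrY.lift (rX ≫ g₁) (pullback.snd p _) hcomm) g₁ rY := by
    refine IsPullback.of_bot ?_ (hrY.lift_fst _ _ _).symm hrY
    rw [hrY.lift_snd, hg₁]
    exact hrX
  exact MorphismProperty.of_isPullback hsq hQ₁

set_option backward.isDefEq.respectTransparency false in
/-- geometrically isomorphic algebraic schemes over a field become isomorphic over a finite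
extension. -/
theorem exists_finite_extension_iso {k : Type u} [Field k] {X Y : Scheme.{u}}
    (p : X ⟶ Spec (CommRingCat.of k)) (q : Y ⟶ Spec (CommRingCat.of k))
    [LocallyOfFiniteType p] [QuasiCompact p] [LocallyOfFiniteType q] [QuasiCompact q]
    (K : Type u) [Field K] [Algebra k K]
    (e : pullback p (Spec.map (CommRingCat.ofHom (algebraMap k K))) ≅
      pullback q (Spec.map (CommRingCat.ofHom (algebraMap k K))))
    (he : e.hom ≫ pullback.snd q (Spec.map (CommRingCat.ofHom (algebraMap k K))) =
      pullback.snd p (Spec.map (CommRingCat.ofHom (algebraMap k K)))) :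
    ∃ (k' : Type u) (_ : Field k') (_ : Algebra k k') (_ : Module.Finite k k')
      (e' : pullback p (Spec.map (CommRingCat.ofHom (algebraMap k k'))) ≅
        pullback q (Spec.map (CommRingCat.ofHom (algebraMap k k')))),
      e'.hom ≫ pullback.snd q (Spec.map (CommRingCat.ofHom (algebraMap k k'))) =
        pullback.snd p (Spec.map (CommRingCat.ofHom (algebraMap k k'))) := by
  obtain ⟨k', i1, i2, i3, g', hg', hiso⟩ := exists_finite_extension
    (MorphismProperty.isomorphisms Scheme.{u}) hasStage_isomorphisms p q K e.hom he
    (inferInstanceAs (IsIso e.hom))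
  have : IsIso g' := hiso
  exact ⟨k', i1, i2, i3, asIso g', hg'⟩

end Groth.Agent.Helper7.ConsPair
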